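import Groth.Agent.L27.Colim.InjExact
import Mathlib.Algebra.Category.ModuleCat.Adjunctions
import Mathlib.Algebra.Category.ModuleCat.Abelian
import Mathlib.Algebra.Category.ModuleCat.Colimits
import Mathlib.CategoryTheory.Abelian.FunctorCategory

/-! # The Cech complex of an injective presheaf of modules is exact -/

universe u

open CategoryTheory CategoryTheory.Limits Opposite

set_option linter.style.haveILetI false
set_option backward.isDefEq.respectTransparency false
set_option backward.isDefEq.respectTransparency.types false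

namespace Groth.L10.ModCmp

open Groth.L27.Colim

variable (Λ : Type (u + 1)) [CommRing Λ] {C : Type (u + 1)} [Category.{u} C] {K L : C} (p : L ⟶ K)

/-- The free presheaf of modules. -/
noncomputable abbrev MFr (n : ℕ) : Cᵒᵖ ⥤ ModuleCat.{u + 1} Λ := T p n ⋙ ModuleCat.free.{u + 1} Λ

/-- Differential. -/
noncomputable def MFrd (n : ℕ) : MFr Λ p (n + 1) ⟶ MFr Λ p n :=
  ∑ j : Fin (n + 2), (-1 : ℤ) ^ (j : ℕ) • Functor.whiskerRight (Tface p j) (ModuleCat.free.{u + 1} Λ)

variable {Λ p}

theorem MFrd_app_of {n : ℕ} (V : Cᵒᵖ) (s : (T p (n + 1)).obj V) :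
    (MFrd Λ p n).app V (ModuleCat.freeMk s) =
      ∑ j : Fin (n + 2), (-1 : ℤ) ^ (j : ℕ) • (ModuleCat.freeMk ((Tface p j).app V s) :
        (ModuleCat.free.{u + 1} Λ).obj ((T p n).obj V)) := by
  simp only [MFrd, NatTrans.app_sum, NatTrans.app_zsmul]
  simp only [ModuleCat.hom_sum, ModuleCat.hom_zsmul, LinearMap.coe_sum, Finset.sum_apply, LinearMap.smul_apply]
  exact Finset.sum_congr rfl fun j _ => congrArg _ (ModuleCat.free_map_apply _ _)

theorem exists_factor {n : ℕ} (P : Cᵒᵖ ⥤ ModuleCat.{u + 1} Λ) [Injective P]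
    (φ : MFr Λ p (n + 1) ⟶ P) (hφ : MFrd Λ p (n + 1) ≫ φ = 0) : ∃ ψ, MFrd Λ p n ≫ ψ = φ := by
  have hker : kernel.ι (MFrd Λ p n) ≫ φ = 0 := by
    refine NatTrans.ext (funext fun V => ModuleCat.hom_ext (LinearMap.ext fun z => ?_))
    have hx : (MFrd Λ p n).app V ((kernel.ι (MFrd Λ p n)).app V z) = 0 :=
      congr($(congr_app (kernel.condition (MFrd Λ p n)) V) z)
    change φ.app V ((kernel.ι (MFrd Λ p n)).app V z) = 0
    generalize (kernel.ι (MFrd Λ p n)).app V z = x at hx ⊢
    let A : ℕ → ModuleCat.{u + 1} Λ := fun m => (ModuleCat.free.{u + 1} Λ).obj ((T p m).obj V)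
    let H : ∀ m, A m ⟶ A (m + 1) := fun m => (ModuleCat.free.{u + 1} Λ).map (TypeCat.ofHom hh)
    let dd : ∀ m, A (m + 1) ⟶ A m := fun m => (MFrd Λ p m).app V
    have key : (H (n + 1) ≫ dd (n + 1)) + dd n ≫ H n = 𝟙 (A (n + 1)) := by
      refine ModuleCat.free_hom_ext fun s => ?_
      simp only [ModuleCat.hom_add, LinearMap.add_apply, ModuleCat.comp_apply, ModuleCat.id_apply, H, dd, A,
        ModuleCat.free_map_apply]
      refine (congrArg₂ (fun a b : ↥(A (n + 1)) => a + b) (MFrd_app_of V (hh s)) ((congrArg (H n).hom (MFrd_app_of V s)).trans ((map_sum (H n).hom _ _).trans (Finset.sum_congr rfl fun j _ => (map_zsmul (H n).hom _ _).trans (congrArg _ (ModuleCat.free_map_apply (TypeCat.ofHom hh) ((Tface p j).app V s))))))).trans ?_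
      rw [Fin.sum_univ_succ]
      simp only [map_zsmul, ModuleCat.free_map_apply, Fin.val_succ, TypeCat.ofHom_apply, Tface_hh_zero, Tface_hh_succ,
        Fin.val_zero, pow_zero, one_smul, pow_succ, mul_neg, mul_one, neg_smul, Finset.sum_neg_distrib]
      abel
    have hx' := congrArg (fun m : A (n + 1) ⟶ A (n + 1) => m x) key
    simp only [ModuleCat.hom_add, LinearMap.add_apply, ModuleCat.comp_apply, ModuleCat.id_apply, dd] at hx'
    erw [hx, map_zero, add_zero] at hx'
    rw [← hx']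
    exact congr($(congr_app hφ V) (H (n + 1) x))
  have hex : (ShortComplex.mk _ _ (kernel.condition (MFrd Λ p n))).Exact :=
    ShortComplex.exact_of_f_is_kernel _ (kernelIsKernel _)
  exact ⟨hex.descToInjective φ hker, hex.comp_descToInjective φ hker⟩

variable {P : Cᵒᵖ ⥤ ModuleCat.{u + 1} Λ}

theorem MFrd_comp (n : ℕ) (φ : MFr Λ p n ⟶ P) (V : Cᵒᵖ) (s : (T p (n + 1)).obj V) :
    (MFrd Λ p n ≫ φ).app V (ModuleCat.freeMk s) =
      ∑ j : Fin (n + 2), (-1 : ℤ) ^ (j : ℕ) • φ.app V (ModuleCat.freeMk ((Tface p j).app V s)) := by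
  exact (congrArg (φ.app V) (MFrd_app_of V s)).trans ((map_sum (φ.app V).hom _ _).trans
    (Finset.sum_congr rfl fun j _ => map_zsmul (φ.app V).hom _ _))

/-- The abelian presheaf underlying a presheaf of modules. -/
noncomputable abbrev toAbP (P : Cᵒᵖ ⥤ ModuleCat.{u + 1} Λ) : Cᵒᵖ ⥤ AddCommGrpCat.{u + 1} :=
  P ⋙ forget₂ (ModuleCat.{u + 1} Λ) AddCommGrpCat.{u + 1}

theorem cechExact_of_injective [Injective P] : CechExact p (toAbP P) := fun n x hx hdx => by
  let φ : MFr Λ p (n + 1) ⟶ P :=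
    { app := fun V => ModuleCat.freeDesc (TypeCat.ofHom fun s => (x V.unop s.down : P.obj V))
      naturality := fun V W f => ModuleCat.free_hom_ext fun s => by
        refine ((congrArg _ (ModuleCat.free_map_apply _ _)).trans (ModuleCat.freeDesc_apply _ _)).trans ?_
        refine Eq.trans ?_ (congrArg (P.map f) (ModuleCat.freeDesc_apply _ _)).symm
        exact hx f.unop s.down }
  have hφ : ∀ (V : Cᵒᵖ) (s : (T p (n + 1)).obj V), φ.app V (ModuleCat.freeMk s) = x V.unop s.down :=
    fun V s => ModuleCat.freeDesc_apply _ _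
  obtain ⟨ψ, hψ⟩ := exists_factor P φ (by
    refine NatTrans.ext (funext fun V => ModuleCat.free_hom_ext fun s => ?_)
    refine (MFrd_comp (n + 1) φ V s).trans ?_
    simp only [hφ]
    exact congrFun (congrFun hdx V.unop) s.down)
  refine ⟨fun V t => ψ.app (op V) (ModuleCat.freeMk (ULift.up t : (T p n).obj (op V))),
    fun {V W} g t => ?_, ?_⟩
  · refine Eq.trans ?_ congr($(ψ.naturality g.op) (ModuleCat.freeMk (ULift.up t : (T p n).obj (op V))))
    exact congrArg (ψ.app (op W)) (ModuleCat.free_map_apply ((T p n).map g.op) (ULift.up t : (T p n).obj (op V))).symm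
  · funext V t
    exact (MFrd_comp n ψ (op V) ⟨t⟩).symm.trans
      (congr($(congr_app hψ (op V)) (ModuleCat.freeMk (ULift.up t : (T p (n + 1)).obj (op V)))).trans
        (hφ _ _))

end Groth.L10.ModCmp
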