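import Groth.Agent.L10.ModCmp.AllAcyclic
import Groth.Agent.L10.ModCmp.InjExact
import Groth.Prelude.Def_SixF2
import Mathlib.CategoryTheory.Abelian.GrothendieckCategory.EnoughInjectives
import Mathlib.Algebra.Homology.DerivedCategory.Ext.Map
import Mathlib.Algebra.Homology.DerivedCategory.Ext.EnoughInjectives

/-! # Cohomology of sheaves of modules is cohomology of the underlying abelian sheaf -/

universe u

open CategoryTheory CategoryTheory.Limits AlgebraicGeometry Opposite CategoryTheory.Abelian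

set_option backward.defeqAttrib.useBackward true
set_option backward.isDefEq.respectTransparency false
set_option backward.isDefEq.respectTransparency.types false
set_option linter.style.haveILetI false

namespace Groth.L10.ModCmp

open Groth.L27.Colim

variable {Λ : Type (u + 1)} [CommRing Λ] {X : Scheme.{u}}

theorem acycA_forget (I : EtModW.Mod Λ X) [Injective I] : AcycA ((EtModD.forgetToAb Λ X).obj I) := by
  intro K L p _ _ _
  haveI : Injective I.obj :=
    Injective.injective_of_adjoint (sheafificationAdjunction X.smallEtaleTopology (ModuleCat.{u + 1} Λ)) I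
  exact cechExact_of_injective (P := I.obj)

/-- The constant sheaf represents global sections. -/
noncomputable def repTop (X : Scheme.{u}) :
    ExtRep.Rep (J := X.smallEtaleTopology) (EtCoh.top X)
      ((constantSheaf X.smallEtaleTopology AddCommGrpCat.{u + 1}).obj (AddCommGrpCat.of (ULift.{u + 1} ℤ))) where
  equiv F := Ext.addEquiv₀.symm.trans (Sheaf.H.equiv₀ F (EtCore.topIsTerminal X))
  nat {F G} f φ := by
    show Sheaf.H.equiv₀ G _ (Ext.addEquiv₀.symm (φ ≫ f)) = f.hom.app _ (Sheaf.H.equiv₀ F _ (Ext.addEquiv₀.symm φ))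
    rw [Sheaf.H.equiv₀_naturality]
    refine congrArg (Sheaf.H.equiv₀ G _) ?_
    rw [Sheaf.H.map_apply]
    exact (Ext.mk₀_comp_mk₀ _ _).symm

theorem subsingleton_H_forget (I : EtModW.Mod Λ X) [Injective I] (n : ℕ) :
    Subsingleton (EtCoh.H X ((EtModD.forgetToAb Λ X).obj I) (n + 1)) :=
  subsingleton_H_of_acyc (goodA X) (repTop X) n _ (acycA_forget I)

/-- An effaceability comparison for Ext along an exact functor. -/
theorem bijective_compare {A B : Type (u + 2)} [Category.{u + 1} A] [Category.{u + 1} B] [Abelian A] [Abelian B]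
    [HasExt.{u + 1} A] [HasExt.{u + 1} B] [EnoughInjectives A] (G : A ⥤ B) [G.Additive]
    [PreservesFiniteLimits G] [PreservesFiniteColimits G] {Z : A} {Z' : B} (ι : Z' ⟶ G.obj Z)
    (h0 : ∀ F : A, Function.Bijective fun e : Ext Z F 0 => (Ext.mk₀ ι).comp (e.mapExactFunctor G) (zero_add 0))
    (hI : ∀ I : A, Injective I → ∀ n : ℕ, Subsingleton (Ext Z' (G.obj I) (n + 1))) (n : ℕ) :
    ∀ F : A, Function.Bijective fun e : Ext Z F n => (Ext.mk₀ ι).comp (e.mapExactFunctor G) (zero_add n) := by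
  induction n with
  | zero => exact h0
  | succ n ih =>
    intro F
    let E := ShortComplex.mk (Injective.ι F) (cokernel.π _) (cokernel.condition _)
    have hE : E.ShortExact :=
      { exact := ShortComplex.exact_of_g_is_cokernel _ (cokernelIsCokernel _) }
    let η : ∀ (M : A) (m : ℕ), Ext Z M m → Ext Z' (G.obj M) m := fun M m e =>
      (Ext.mk₀ ι).comp (e.mapExactFunctor G) (zero_add m)
    have hδ : ∀ y : Ext Z E.X₃ n, η E.X₁ (n + 1) (y.comp hE.extClass rfl) =
        (η E.X₃ n y).comp (hE.map_of_exact G).extClass rfl := fun y => by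
      simp only [η, Ext.mapExactFunctor_comp, Ext.mapExactFunctor_extClass]
      exact (Ext.comp_assoc (Ext.mk₀ ι) (y.mapExactFunctor G) (hE.map_of_exact G).extClass (zero_add n) rfl (by omega)).symm
    have hg : ∀ z : Ext Z E.X₂ n, η E.X₃ n (z.comp (Ext.mk₀ E.g) (add_zero n)) =
        (η E.X₂ n z).comp (Ext.mk₀ (G.map E.g)) (add_zero n) := fun z => by
      simp only [η, Ext.mapExactFunctor_comp, Ext.mapExactFunctor_mk₀]
      exact (Ext.comp_assoc (Ext.mk₀ ι) (z.mapExactFunctor G) (Ext.mk₀ (G.map E.g)) (zero_add n) (add_zero n) (by omega)).symm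
    refine ⟨fun x x' hxx => ?_, fun w => ?_⟩
    · rw [← sub_eq_zero]
      have hx : η E.X₁ (n + 1) (x - x') = 0 := by
        exact (map_sub ((AddMonoidHom.mk' (fun e => (Ext.mk₀ ι).comp e (zero_add (n + 1)))
          (fun _ _ => Ext.comp_add _ _ _ _)).comp (G.mapExtAddHom Z F (n + 1))) x x').trans (sub_eq_zero.2 hxx)
      obtain ⟨y, hy⟩ := Ext.covariant_sequence_exact₁ _ hE (x - x') (Ext.eq_zero_of_injective _) rfl
      rw [← hy] at hx ⊢
      obtain ⟨z', hz'⟩ := Ext.covariant_sequence_exact₃ _ (hE.map_of_exact G) _ rfl ((hδ y).symm.trans hx)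
      obtain ⟨z, rfl⟩ := (ih E.X₂).2 z'
      rw [← (ih E.X₃).1 ((hg z).trans hz'), Ext.comp_assoc_of_second_deg_zero,
        ShortComplex.ShortExact.comp_extClass, Ext.comp_zero]
    · obtain ⟨y', hy'⟩ := Ext.covariant_sequence_exact₁ _ (hE.map_of_exact G) w
        (@Subsingleton.elim _ (hI (Injective.under F) inferInstance n) _ _) rfl
      obtain ⟨y, rfl⟩ := (ih E.X₃).2 y'
      exact ⟨y.comp hE.extClass rfl, (hδ y).trans hy'⟩

variable [PreservesFiniteLimits (EtModD.forgetToAb Λ X)] [PreservesFiniteColimits (EtModD.forgetToAb Λ X)]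
  [(EtModD.forgetToAb Λ X).Additive]

theorem bijective_zero (F : EtModW.Mod Λ X) : Function.Bijective (EtSix.HModToH Λ F 0) := by
  let G := EtModD.forgetToAb Λ X
  let Z : EtCoh.Ab X := (constantSheaf X.smallEtaleTopology AddCommGrpCat.{u + 1}).obj (AddCommGrpCat.of (ULift.{u + 1} ℤ))
  have hΦ : Function.Bijective fun φ : EtSix.constΛ Λ X ⟶ F => (EtSix.intToConstΛ Λ X ≫ G.map φ : Z ⟶ G.obj F) := by
    let a : (EtSix.constΛ Λ X ⟶ F) ≃ (EtSix.gsecMod Λ X).obj F :=
      ((EtSix.constModAdj Λ X).homEquiv (ModuleCat.of Λ Λ) F).trans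
        (ModuleCat.homEquiv.trans (LinearMap.ringLmapEquivSelf Λ Λ _).toEquiv)
    let b : (Z ⟶ G.obj F) → (EtSix.gsecMod Λ X).obj F := fun ψ =>
      ((EtCore.constAdj X).homEquiv _ _ ψ) (ULift.up (1 : ℤ))
    have hb : Function.Injective b := fun ψ ψ' h => ((EtCore.constAdj X).homEquiv _ _).injective (by
      refine AddCommGrpCat.hom_ext (AddMonoidHom.ext fun z => ?_)
      obtain ⟨k⟩ := z
      have hk : (⟨k⟩ : ULift.{u + 1} ℤ) = k • ⟨1⟩ := ULift.ext _ _ (by simp)
      rw [hk]
      exact (map_zsmul _ _ _).trans ((congrArg (k • ·) h).trans (map_zsmul _ _ _).symm))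
    have hab : ∀ φ, b (EtSix.intToConstΛ Λ X ≫ G.map φ) = a φ := fun φ => by
      show ((EtCore.constAdj X).homEquiv _ _ (EtSix.intToConstΛ Λ X ≫ G.map φ)) (ULift.up (1 : ℤ)) = _
      rw [Adjunction.homEquiv_naturality_right, EtSix.intToConstΛ, Equiv.apply_symm_apply]
      refine (congrArg (fun s => φ.hom.app (op (EtCoh.top X)) s) (one_zsmul _)).trans ?_
      show _ = ((EtSix.constModAdj Λ X).homEquiv (ModuleCat.of Λ Λ) F φ).hom (1 : Λ)
      rw [Adjunction.homEquiv_unit]
      rfl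
    refine ⟨fun φ φ' h => a.injective ((hab φ).symm.trans ((congrArg b h).trans (hab φ'))), fun ψ => ?_⟩
    exact ⟨a.symm (b ψ), hb ((hab _).trans (a.apply_symm_apply _))⟩
  have h : ⇑(EtSix.HModToH Λ F 0) =
      (Ext.mk₀ : (Z ⟶ G.obj F) → _) ∘ (fun φ => EtSix.intToConstΛ Λ X ≫ G.map φ) ∘ Ext.homEquiv₀ := funext fun x => by
    obtain ⟨φ, rfl⟩ := (Ext.mk₀_bijective _ _).2 x
    show (Ext.mk₀ (EtSix.intToConstΛ Λ X)).comp ((Ext.mk₀ φ).mapExactFunctor G) (zero_add 0) = _
    rw [Ext.mapExactFunctor_mk₀, Ext.mk₀_comp_mk₀]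
    exact congrArg (fun w => Ext.mk₀ (EtSix.intToConstΛ Λ X ≫ G.map w))
      ((Ext.mk₀_bijective _ _).1 (Ext.mk₀_homEquiv₀_apply (Ext.mk₀ φ))).symm
  rw [h]
  exact (Ext.mk₀_bijective _ _).comp (hΦ.comp Ext.homEquiv₀.bijective)

theorem bijective (n : ℕ) (F : EtModW.Mod Λ X) : Function.Bijective (EtSix.HModToH Λ F n) :=
  bijective_compare.{u} (EtModD.forgetToAb Λ X) (EtSix.intToConstΛ Λ X) bijective_zero
    (fun I _ n => subsingleton_H_forget I n) n F

end Groth.L10.ModCmp
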