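import Groth.Agent.L27.Colim.Acyclic
import Groth.Agent.L27.Colim.ExtRep
import Groth.Agent.L27.EtSite.Common
import Groth.Agent.L27.Colim.Etale

/-! # Cech exact sheaves on the small etale site of any scheme are acyclic -/

universe u

open CategoryTheory CategoryTheory.Limits AlgebraicGeometry Opposite CategoryTheory.Abelian

set_option linter.style.haveILetI false
set_option linter.unusedSectionVars false
set_option backward.isDefEq.respectTransparency.types false

namespace Groth.L10.ModCmp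

open Groth.L27 Groth.L27.Colim Groth.L27.Colim.ExtRep

variable {C : Type (u + 1)} [Category.{u} C] {J : GrothendieckTopology C}

/-- Self products exist and covering sieves are refined by single coverings. -/
structure GoodA (J : GrothendieckTopology C) : Prop where
  tup : ∀ {K L : C} (p : L ⟶ K), IsCov J p → ∀ n : ℕ,
    ∃ (W : C) (t : Tup p n W), ∀ (V : C) (t' : Tup p n V), ∃! g : V ⟶ W, t.res g = t'
  refine_cover : ∀ (K : C), ∀ R ∈ J K, ∃ (L : C) (p : L ⟶ K), IsCov J p ∧
    ∃ (ι : Type u) (Y : ι → C) (q : ∀ i, Y i ⟶ L), (∀ i, R.arrows (q i ≫ p)) ∧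
      ∀ F : Sheaf J AddCommGrpCat.{u + 1},
        Function.Bijective fun (x : F.obj.obj (op L)) (i : ι) => F.obj.map (q i).op x

/-- Cech exactness for all coverings. -/
abbrev AcycA (A : Sheaf J AddCommGrpCat.{u + 1}) : Prop :=
  Acyc (fun _ : C => True) A

variable [HasSheafify J AddCommGrpCat.{u + 1}] [J.HasSheafCompose (forget AddCommGrpCat.{u + 1})]
  [J.WEqualsLocallyBijective AddCommGrpCat.{u + 1}] (hS : GoodA J) {E : ShortComplex (Sheaf J AddCommGrpCat.{u + 1})}

include hS in
theorem surjective_of_acyc (hE : E.ShortExact) (hA : AcycA E.X₁) {K : C}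
    (c : E.X₃.obj.obj (op K)) : ∃ b, E.g.hom.app (op K) b = c := by
  have := hE.epi_g
  have : Sheaf.IsLocallySurjective E.g := (Sheaf.isLocallySurjective_iff_epi' (φ := E.g)).2 inferInstance
  obtain ⟨L, p, hp, ι, Y, q, hq, hbij⟩ :=
    hS.refine_cover K _ (Presheaf.imageSieve_mem J E.g.hom c)
  choose b hb using fun i => (hq i : ∃ t, E.g.hom.app _ t = E.X₃.obj.map (q i ≫ p).op c)
  obtain ⟨β, hβ⟩ := (hbij E.X₂).2 b
  have hgβ : E.g.hom.app (op L) β = E.X₃.obj.map p.op c := (hbij E.X₃).1 (funext fun i => by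
    show E.X₃.obj.map (q i).op _ = E.X₃.obj.map (q i).op _
    rw [← NatTrans.naturality_apply E.g.hom (q i).op β, show E.X₂.obj.map (q i).op β = b i from congrFun hβ i,
      hb i, map_comp])
  -- the associated cochain
  let x : Fam p E.X₂.obj 0 := fun V t => E.X₂.obj.map (t.1 0).op β
  have hx : IsNat x := fun {V W} g t => (map_comp E.X₂ g (t.1 0) β).symm
  have hgx : ∀ V (t : Tup p 0 V), E.g.hom.app (op V) (x V t) = E.X₃.obj.map (t.1 0 ≫ p).op c := fun V t => by
    show E.g.hom.app (op V) (E.X₂.obj.map (t.1 0).op β) = _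
    rw [NatTrans.naturality_apply E.g.hom (t.1 0).op β, hgβ, map_comp]
  obtain ⟨a, ha, hax⟩ := exists_preimage hE (d x) hx.d (by
    funext V t
    show E.g.hom.app (op V) (∑ j : Fin 2, (-1 : ℤ) ^ (j : ℕ) • x V (t.face j)) = 0
    simp only [Fin.sum_univ_two, Fin.val_zero, Fin.val_one, pow_zero, pow_one, one_smul, neg_smul,
      map_add, map_neg, hgx]
    rw [show (t.face 0).1 0 ≫ p = (t.face 1).1 0 ≫ p from t.2 _ _, add_neg_cancel])
  obtain ⟨a', ha', hda'⟩ := hA K L p trivial trivial hp 0 a ha (mapFam_injective hE (by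
    rw [← d_mapFam, hax, d_d]
    funext V t
    exact (map_zero (E.f.hom.app (op V)).hom).symm))
  let z := x - mapFam E.f.hom a'
  have hz : d z = 0 := by rw [d_sub, d_mapFam, hda', hax, sub_self]
  have hzn : IsNat z := hx.sub (ha'.map _)
  let t₁ : Tup p 0 L := ⟨fun _ => 𝟙 L, fun _ _ => rfl⟩
  have ht₁ : ∀ (V : C) (t : Tup p 0 V), z V t = E.X₂.obj.map (t.1 0).op (z L t₁) := fun V t => by
    refine Eq.trans (congrArg (z V) (Subtype.ext (funext fun k => ?_))) (hzn (t.1 0) t₁)
    rw [show k = 0 from Subsingleton.elim (α := Fin 1) k 0]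
    exact (Category.comp_id _).symm
  obtain ⟨b₀, hb₀⟩ := cov_glue E.X₂ hp (z L t₁) (fun V t => by
    have : ∑ j : Fin 2, (-1 : ℤ) ^ (j : ℕ) • z V (t.face j) = 0 := congrFun (congrFun hz V) t
    simp only [Fin.sum_univ_two, Fin.val_zero, Fin.val_one, pow_zero, pow_one, one_smul, neg_smul,
      ← sub_eq_add_neg, sub_eq_zero] at this
    exact ((ht₁ V (t.face 0)).symm.trans (this.trans (ht₁ V (t.face 1)))).symm)
  refine ⟨b₀, cov_injective E.X₃ hp ?_⟩
  rw [← NatTrans.naturality_apply E.g.hom p.op b₀, hb₀]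
  show E.g.hom.app (op L) (x L t₁ - E.f.hom.app (op L) (a' L t₁)) = _
  rw [map_sub, app_comp, sub_zero, hgx]
  exact congrArg (fun m => E.X₃.obj.map (Quiver.Hom.op m) c) (Category.id_comp p)

include hS in
theorem acyc_X₃ (hE : E.ShortExact) (hA : AcycA E.X₁) (hB : AcycA E.X₂) : AcycA E.X₃ := by
  intro K L p _ _ hp n c hc hdc
  obtain ⟨W, t, huniv⟩ := hS.tup p hp (n + 1)
  obtain ⟨β, hβ⟩ := surjective_of_acyc hS hE hA (c W t)
  choose g hg hguniq using fun V t' => huniv V t'
  let b : Fam p E.X₂.obj (n + 1) := fun V t' => E.X₂.obj.map (g V t').op β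
  have hb : IsNat b := fun {V V'} i t' => by
    show E.X₂.obj.map (g V' (t'.res i)).op β = E.X₂.obj.map i.op (E.X₂.obj.map (g V t').op β)
    rw [map_comp, ← hguniq V' (t'.res i) (i ≫ g V t') (by
      show t.res (i ≫ g V t') = t'.res i
      rw [← Tup.res_res, hg V t'])]
  have hgb : mapFam E.g.hom b = c := by
    funext V t'
    show E.g.hom.app (op V) (E.X₂.obj.map (g V t').op β) = c V t'
    rw [NatTrans.naturality_apply E.g.hom (g V t').op β, hβ, ← hc, hg V t']
  obtain ⟨a, ha, hab⟩ := exists_preimage hE (d b) hb.d (by rw [← d_mapFam, hgb, hdc])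
  obtain ⟨a', ha', hda'⟩ := hA K L p trivial trivial hp (n + 1) a ha (mapFam_injective hE (by
    rw [← d_mapFam, hab, d_d]
    funext V t'
    exact (map_zero (E.f.hom.app (op V)).hom).symm))
  obtain ⟨b', hb', hdb'⟩ := hB K L p trivial trivial hp n (b - mapFam E.f.hom a') (hb.sub (ha'.map _))
    (by rw [d_sub, d_mapFam, hda', hab, sub_self])
  refine ⟨mapFam E.g.hom b', hb'.map _, ?_⟩
  rw [d_mapFam, hdb']
  funext V t'
  show E.g.hom.app (op V) (b V t' - E.f.hom.app (op V) (a' V t')) = c V t'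
  rw [map_sub, app_comp, sub_zero]
  exact congrFun (congrFun hgb V) t'

variable [HasExt.{u + 1} (Sheaf J AddCommGrpCat.{u + 1})] [EnoughInjectives (Sheaf J AddCommGrpCat.{u + 1})]
  {T : C} {Z : Sheaf J AddCommGrpCat.{u + 1}} (hT : Rep T Z)

include hS hT in
theorem exists_map_H0 {E : ShortComplex (Sheaf J AddCommGrpCat.{u + 1})} (hE : E.ShortExact)
    (hA : AcycA E.X₁) (x : Ext Z E.X₃ 0) : ∃ y, Emap E.g 0 y = x := by
  obtain ⟨b, hb⟩ := surjective_of_acyc hS hE hA (eqv hT E.X₃ x)
  exact ⟨(eqv hT E.X₂).symm b, by rw [symm_naturality, hb, AddEquiv.symm_apply_apply]⟩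

include hS hT in
/-- Cech exact sheaves are acyclic. -/
theorem subsingleton_H_of_acyc (n : ℕ) (A : Sheaf J AddCommGrpCat.{u + 1}) (hA : AcycA A) :
    Subsingleton (Ext Z A (n + 1)) := by
  induction n generalizing A with
  | zero =>
    let E := ShortComplex.mk (Injective.ι A) (cokernel.π _) (cokernel.condition _)
    have hE : E.ShortExact :=
      { exact := ShortComplex.exact_of_g_is_cokernel _ (cokernelIsCokernel _) }
    refine subsingleton_of_forall_eq 0 fun x => ?_
    obtain ⟨y, hy⟩ := Ext.covariant_sequence_exact₁ _ hE x (Ext.eq_zero_of_injective _) (zero_add 1)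
    obtain ⟨z, hz⟩ := exists_map_H0 hS hT hE hA y
    rw [← hy, ← hz, Emap_apply, Ext.comp_assoc_of_second_deg_zero, ShortComplex.ShortExact.comp_extClass,
      Ext.comp_zero]
  | succ n ih =>
    let E := ShortComplex.mk (Injective.ι A) (cokernel.π _) (cokernel.condition _)
    have hE : E.ShortExact :=
      { exact := ShortComplex.exact_of_g_is_cokernel _ (cokernelIsCokernel _) }
    haveI := ih _ (acyc_X₃ hS hE hA (Colim.acyc_of_injective (Injective.under A)))
    refine subsingleton_of_forall_eq 0 fun x => ?_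
    obtain ⟨y, hy⟩ := Ext.covariant_sequence_exact₁ _ hE x (Ext.eq_zero_of_injective _) rfl
    rw [← hy, Subsingleton.elim y 0, Ext.zero_comp]

theorem exists_pb {X : Scheme.{u}} {A B K : X.Etale} (f : A ⟶ K) (g : B ⟶ K) :
    ∃ (P : X.Etale) (a : P ⟶ A) (b : P ⟶ B), a ≫ f = b ≫ g ∧
      ∀ (V : X.Etale) (u : V ⟶ A) (v : V ⟶ B), u ≫ f = v ≫ g → ∃! l : V ⟶ P, l ≫ a = u ∧ l ≫ b = v := by
  haveI : AlgebraicGeometry.Etale A.hom := A.prop
  haveI : AlgebraicGeometry.Etale g.left := EtSite.etale_left g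
  refine ⟨Scheme.Etale.mk (pullback.fst f.left g.left ≫ A.hom),
    MorphismProperty.Over.homMk (pullback.fst f.left g.left) rfl,
    MorphismProperty.Over.homMk (pullback.snd f.left g.left) ?_,
    MorphismProperty.Over.Hom.ext pullback.condition, fun V u v e => ?_⟩
  · show pullback.snd f.left g.left ≫ B.hom = pullback.fst f.left g.left ≫ A.hom
    rw [← MorphismProperty.Over.w f, ← MorphismProperty.Over.w g, pullback.condition_assoc]
  · have e' : u.left ≫ f.left = v.left ≫ g.left := congrArg (fun m => m.left) e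
    refine ⟨MorphismProperty.Over.homMk (pullback.lift u.left v.left e')
      ((Category.assoc _ _ _).symm.trans ((congrArg (· ≫ A.hom) (pullback.lift_fst _ _ _)).trans
        (MorphismProperty.Over.w u))),
      ⟨MorphismProperty.Over.Hom.ext (pullback.lift_fst _ _ _), MorphismProperty.Over.Hom.ext (pullback.lift_snd _ _ _)⟩,
      fun l hl => MorphismProperty.Over.Hom.ext (pullback.hom_ext ?_ ?_)⟩
    · exact (congrArg (fun m : V ⟶ A => m.left) hl.1).trans (pullback.lift_fst u.left v.left e').symm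
    · exact (congrArg (fun m : V ⟶ B => m.left) hl.2).trans (pullback.lift_snd u.left v.left e').symm

theorem exists_tupA {X : Scheme.{u}} {K L : X.Etale} (p : L ⟶ K) (n : ℕ) :
    ∃ (W : X.Etale) (t : Tup p n W), ∀ (V : X.Etale) (t' : Tup p n V), ∃! g : V ⟶ W, t.res g = t' := by
  induction n with
  | zero =>
    refine ⟨L, ⟨fun _ => 𝟙 L, fun _ _ => rfl⟩, fun V t' => ⟨t'.1 0, ?_, fun g hg => ?_⟩⟩
    · refine Subtype.ext (funext fun k => ?_)
      rw [show k = 0 from Subsingleton.elim (α := Fin 1) k 0]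
      exact Category.comp_id _
    · exact (Category.comp_id g).symm.trans (congrFun (congrArg Subtype.val hg) 0)
  | succ n ih =>
    obtain ⟨W, t, ht⟩ := ih
    obtain ⟨P, a, b, hab, hlift⟩ := exists_pb p (t.1 0 ≫ p)
    refine ⟨P, ⟨Fin.cons a (fun k => b ≫ t.1 k), fun k l => ?_⟩, fun V t' => ?_⟩
    · have key : ∀ k : Fin (n + 1 + 1), (Fin.cons (α := fun _ => P ⟶ L) a (fun k => b ≫ t.1 k) k) ≫ p = a ≫ p :=
        fun k => by
          refine Fin.cases ?_ (fun i => ?_) k
          · rw [Fin.cons_zero]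
          · rw [Fin.cons_succ, Category.assoc, t.2 i 0, hab]
      exact (key k).trans (key l).symm
    · obtain ⟨g, hg, hgu⟩ := ht V ⟨fun k => t'.1 k.succ, fun k l => t'.2 _ _⟩
      have hgk : ∀ k, g ≫ t.1 k = t'.1 k.succ := fun k => congrFun (congrArg Subtype.val hg) k
      obtain ⟨l, ⟨hla, hlb⟩, hlu⟩ := hlift V (t'.1 0) g (by rw [← Category.assoc, hgk, t'.2 0 (Fin.succ 0)])
      refine ⟨l, Subtype.ext (funext fun k => ?_), fun l' hl' => ?_⟩
      · show l ≫ _ = _
        refine Fin.cases ?_ (fun i => ?_) k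
        · exact hla
        · exact (Category.assoc l b (t.1 i)).symm.trans ((congrArg (· ≫ t.1 i) hlb).trans (hgk i))
      · have h : ∀ k, l' ≫ Fin.cons (α := fun _ => P ⟶ L) a (fun k => b ≫ t.1 k) k = t'.1 k :=
          fun k => congrFun (congrArg Subtype.val hl') k
        refine hlu l' ⟨by simpa using h 0, hgu _ (Subtype.ext (funext fun k => ?_))⟩
        have := h k.succ
        rw [Fin.cons_succ, ← Category.assoc] at this
        exact this

theorem exists_cover {X : Scheme.{u}} (K : X.Etale) (R : Sieve K) (hR : R ∈ X.smallEtaleTopology K) :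
    ∃ (L : X.Etale) (p : L ⟶ K), IsCov X.smallEtaleTopology p ∧
      ∃ (ι : Type u) (Y : ι → X.Etale) (q : ∀ i, Y i ⟶ L),
        (∀ i, R.arrows (q i ≫ p)) ∧ ∀ F : Sheaf X.smallEtaleTopology AddCommGrpCat.{u + 1},
          Function.Bijective fun (x : F.obj.obj (op L)) (i : ι) => F.obj.map (q i).op x := by
  choose V g v hg hv using (EtSite.mem_topology_iff R).1 hR
  let Z : K.left → Scheme.{u} := fun i => (V i).left
  let f : ∀ i, Z i ⟶ K.left := fun i => (g i).left
  haveI : AlgebraicGeometry.Etale K.hom := K.prop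
  haveI : ∀ i, AlgebraicGeometry.Etale (f i) := fun i => EtSite.etale_left (g i)
  haveI : AlgebraicGeometry.Etale (Sigma.desc f) :=
    IsZariskiLocalAtSource.sigmaDesc (P := EtCoh.etaleMP.{u}) fun i => inferInstance
  let L : X.Etale := Scheme.Etale.mk (Sigma.desc f ≫ K.hom)
  let p : L ⟶ K := MorphismProperty.Over.homMk (Sigma.desc f) rfl
  let Y : K.left → X.Etale := fun i =>
    haveI : AlgebraicGeometry.Etale (Sigma.ι Z i) := inferInstance
    Scheme.Etale.mk (Sigma.ι Z i ≫ Sigma.desc f ≫ K.hom)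
  let q : ∀ i, Y i ⟶ L := fun i => MorphismProperty.Over.homMk (Sigma.ι Z i) rfl
  refine ⟨L, p, (Colim.isCov_iff p).2 fun x => ?_, K.left, Y, q, fun i => ?_, fun F => ?_⟩
  · refine ⟨Sigma.ι Z x (v x), ?_⟩
    refine (Scheme.Hom.comp_apply (Sigma.ι Z x) (Sigma.desc f) _).symm.trans ?_
    rw [Sigma.ι_desc]
    exact hv x
  · have hV : (Sigma.ι Z i ≫ Sigma.desc f ≫ K.hom) = (V i).hom := by
      rw [← Category.assoc, Sigma.ι_desc]
      exact MorphismProperty.Over.w (g i)
    let m : Y i ⟶ V i := MorphismProperty.Over.homMk (𝟙 (Z i)) (by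
      show 𝟙 _ ≫ (V i).hom = _
      rw [Category.id_comp]; exact hV.symm)
    rw [show q i ≫ p = m ≫ g i from MorphismProperty.Over.Hom.ext ((Sigma.ι_desc f i).trans (Category.id_comp _).symm)]
    exact R.downward_closed (hg i) m
  · let P : Presieve L := Presieve.ofArrows Y q
    have hP : Sieve.generate P ∈ X.smallEtaleTopology L := (EtSite.mem_topology_iff _).2 fun x => by
      obtain ⟨i, z, hz⟩ : ∃ i z, Sigma.ι Z i z = x := (sigmaOpenCover Z).exists_eq x
      exact ⟨Y i, q i, z, Sieve.le_generate P _ _ (Presieve.ofArrows.mk i), hz⟩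
    have hsheaf := ((isSheaf_iff_isSheaf_of_type _ _).1
      ((Presheaf.isSheaf_iff_isSheaf_forget X.smallEtaleTopology F.obj (forget AddCommGrpCat.{u + 1})).1 F.property))
      _ hP
    rw [← Presieve.isSheafFor_iff_generate, Presieve.isSheafFor_arrows_iff] at hsheaf
    refine ⟨fun x y h => ?_, fun z => ?_⟩
    · refine EtSite.ext_of_locally F fun l => ?_
      obtain ⟨i, w, hw⟩ : ∃ i w, Sigma.ι Z i w = l := (sigmaOpenCover Z).exists_eq l
      exact ⟨Y i, q i, w, hw, congrFun h i⟩
    · obtain ⟨x, hx, -⟩ := hsheaf z fun i j Q a b e => by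
        by_cases hij : i = j
        · subst hij
          rw [show a = b from MorphismProperty.Over.Hom.ext
            ((cancel_mono (Sigma.ι Z i)).1 (congrArg (fun m : Q ⟶ L => m.left) e))]
        · refine EtSite.ext_of_locally F fun w => ?_
          haveI := isEmpty_of_commSq_sigmaι_of_ne (g := Z) (⟨congrArg (fun m : Q ⟶ L => m.left) e⟩ :
            CommSq a.left b.left (Sigma.ι Z i) (Sigma.ι Z j)) hij
          exact isEmptyElim w
      exact ⟨x, funext hx⟩

/-- The small etale site of any scheme. -/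
theorem goodA (X : Scheme.{u}) : GoodA X.smallEtaleTopology where
  tup p _ n := exists_tupA p n
  refine_cover := exists_cover

end Groth.L10.ModCmp
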